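import Cfsg.Agent.S3639
import Mathlib

/-!
# The Suzuki-Tits ovoid as an orbit of `Cfsg.Lie.Sz F e`

`Abs e x` says that the vector `x` lies on the line with Plücker coordinates `x^θ`.
It is preserved by the Suzuki group, the first columns of elements of `Sz` are therefore determined
up to scalars by two parameters, and `q² + 1` divides the order of `Sz`.
-/

set_option autoImplicit false
set_option linter.unusedSimpArgs false
set_option linter.unusedVariables false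

namespace Cfsg.Agent.Lib.SzOvoid

open Matrix Cfsg.Lie

variable {F : Type*} [Field F]

/-- Two-by-two minor of two rows. -/
def mn (u v : Fin 4 → F) (i j : Fin 4) : F := u i * v j - v i * u j

/-- A bivector applied to two rows. -/
def lam (a b c d s s' : F) (u v : Fin 4 → F) : F :=
  mn u v 0 1 * a + mn u v 0 2 * b + mn u v 1 3 * c + mn u v 2 3 * d + mn u v 0 3 * s + mn u v 1 2 * s'

/-- Row times vector. -/
def dt (u x : Fin 4 → F) : F := u 0 * x 0 + u 1 * x 1 + u 2 * x 2 + u 3 * x 3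

/-- Three-by-three minor. -/
def mn3 (u v t : Fin 4 → F) (i j k : Fin 4) : F :=
  u i * (v j * t k - t j * v k) - u j * (v i * t k - t i * v k) + u k * (v i * t j - t i * v j)

/-- Functoriality of wedge: `x ∧ π = 0` implies `g x ∧ Λ²g π = 0`. -/
lemma wedge_zero (u v t x : Fin 4 → F) (a b c d s s' : F)
    (h012 : x 0 * s' - x 1 * b + x 2 * a = 0)
    (h013 : x 0 * c - x 1 * s + x 3 * a = 0)
    (h023 : x 0 * d - x 2 * s + x 3 * b = 0)
    (h123 : x 1 * d - x 2 * c + x 3 * s' = 0) :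
    dt u x * lam a b c d s s' v t - dt v x * lam a b c d s s' u t + dt t x * lam a b c d s s' u v = 0 := by
  simp only [dt, lam, mn]
  linear_combination (u 0 * (v 1 * t 2 - t 1 * v 2) - u 1 * (v 0 * t 2 - t 0 * v 2) + u 2 * (v 0 * t 1 - t 0 * v 1)) * h012
    + (u 0 * (v 1 * t 3 - t 1 * v 3) - u 1 * (v 0 * t 3 - t 0 * v 3) + u 3 * (v 0 * t 1 - t 0 * v 1)) * h013
    + (u 0 * (v 2 * t 3 - t 2 * v 3) - u 2 * (v 0 * t 3 - t 0 * v 3) + u 3 * (v 0 * t 2 - t 0 * v 2)) * h023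
    + (u 1 * (v 2 * t 3 - t 2 * v 3) - u 2 * (v 1 * t 3 - t 1 * v 3) + u 3 * (v 1 * t 2 - t 1 * v 2)) * h123

/-- The determinant as a polynomial. -/
lemma plucker (A : Matrix (Fin 4) (Fin 4) F) (a b c d s s' : F) :
    lam a b c d s s' (A 0) (A 1) * lam a b c d s s' (A 2) (A 3)
      - lam a b c d s s' (A 0) (A 2) * lam a b c d s s' (A 1) (A 3)
      + lam a b c d s s' (A 0) (A 3) * lam a b c d s s' (A 1) (A 2) =
    A.det * (a * d - b * c + s * s') := by
  rw [Cfsg.Agent.S3639.det_four]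
  simp only [lam, mn]
  ring

/-- Being on the absolute line. -/
def Abs (e : ℕ) (x : Fin 4 → F) : Prop :=
  ∃ s : F, x 0 ^ e * x 3 ^ e - x 1 ^ e * x 2 ^ e + s * s = 0 ∧
    x 0 * s - x 1 * x 1 ^ e + x 2 * x 0 ^ e = 0 ∧
    x 0 * x 2 ^ e - x 1 * s + x 3 * x 0 ^ e = 0 ∧
    x 0 * x 3 ^ e - x 2 * s + x 3 * x 1 ^ e = 0 ∧
    x 1 * x 3 ^ e - x 2 * x 2 ^ e + x 3 * s = 0

variable {e : ℕ}

/-- Invariance under the generators. -/
lemma abs_mulVec (h2 : (2 : F) = 0) (hadd : ∀ a b : F, (a + b) ^ e = a ^ e + b ^ e)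
    (g : GL (Fin 4) F) (hsp : g ∈ Sp4 F)
    (hst : star4 (g : Matrix (Fin 4) (Fin 4) F) = (g : Matrix (Fin 4) (Fin 4) F).map (fun x => x ^ e))
    {x : Fin 4 → F} (hx : Abs e x) : Abs e ((g : Matrix (Fin 4) (Fin 4) F) *ᵥ x) := by
  obtain ⟨s, hP, h012, h013, h023, h123⟩ := hx
  set A : Matrix (Fin 4) (Fin 4) F := (g : Matrix (Fin 4) (Fin 4) F) with hA
  have hrow := Cfsg.Agent.S3639.row_rel g hsp
  rw [← hA] at hrow
  have hcol := Cfsg.Agent.S3639.col_rel A hrow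
  set a := x 0 ^ e with ha
  set b := x 1 ^ e with hb
  set c := x 2 ^ e with hc
  set d := x 3 ^ e with hd
  have hy : ∀ i, (A *ᵥ x) i = dt (A i) x := by
    intro i
    simp only [Matrix.mulVec, dotProduct, Fin.sum_univ_four, dt]
  have hye : ∀ i, (A *ᵥ x) i ^ e = A i 0 ^ e * a + A i 1 ^ e * b + A i 2 ^ e * c + A i 3 ^ e * d := by
    intro i
    rw [hy, dt, hadd, hadd, hadd, mul_pow, mul_pow, mul_pow, mul_pow]
  have hstar : ∀ p r : Fin 4, A (pairOf p).1 (pairOf r).1 * A (pairOf p).2 (pairOf r).2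
      - A (pairOf p).2 (pairOf r).1 * A (pairOf p).1 (pairOf r).2 = A p r ^ e := by
    intro p r
    have := congrFun (congrFun hst p) r
    simpa [Cfsg.Lie.star4, hA] using this
  -- the four images
  have key : ∀ p : Fin 4, (pairOf p).1.rev ≠ (pairOf p).2 →
      lam a b c d s s (A (pairOf p).1) (A (pairOf p).2) = (A *ᵥ x) p ^ e := by
    intro p hp
    have h3 := hcol (pairOf p).1 (pairOf p).2
    rw [if_neg hp] at h3
    rw [hye p]
    have e0 := hstar p 0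
    have e1 := hstar p 1
    have e2 := hstar p 2
    have e3 := hstar p 3
    simp only [Cfsg.Agent.S3639.pair0, Cfsg.Agent.S3639.pair1, Cfsg.Agent.S3639.pair2, Cfsg.Agent.S3639.pair3] at e0 e1 e2 e3
    rw [← e0, ← e1, ← e2, ← e3]
    simp only [lam, mn]
    linear_combination s * h3 + (-s * (A (pairOf p).2 0 * A (pairOf p).1 3 + A (pairOf p).2 1 * A (pairOf p).1 2)) * h2
  have ka := key 0 (by decide)
  have kb := key 1 (by decide)
  have kc := key 2 (by decide)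
  have kd := key 3 (by decide)
  simp only [Cfsg.Agent.S3639.pair0, Cfsg.Agent.S3639.pair1, Cfsg.Agent.S3639.pair2, Cfsg.Agent.S3639.pair3] at ka kb kc kd
  -- the two middle coordinates agree
  have hmid : lam a b c d s s (A 0) (A 3) = lam a b c d s s (A 1) (A 2) := by
    have r01 := hrow 0 1
    have r02 := hrow 0 2
    have r13 := hrow 1 3
    have r23 := hrow 2 3
    have r03 := hrow 0 3
    have r12 := hrow 1 2
    rw [if_neg (by decide)] at r01 r02 r13 r23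
    rw [if_pos (by decide)] at r03 r12
    simp only [lam, mn]
    linear_combination a * r01 + b * r02 + c * r13 + d * r23 + s * r03 + s * r12 + s * h2
      - (a * (A 3 0 * A 0 1 + A 1 0 * A 2 1) + b * (A 3 0 * A 0 2 + A 1 0 * A 2 2)
        + c * (A 3 1 * A 0 3 + A 1 1 * A 2 3) + d * (A 3 2 * A 0 3 + A 1 2 * A 2 3)
        + s * (A 3 0 * A 0 3 + A 1 0 * A 2 3) + s * (A 3 1 * A 0 2 + A 1 1 * A 2 2)) * h2
  refine ⟨lam a b c d s s (A 0) (A 3), ?_, ?_, ?_, ?_, ?_⟩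
  · have := plucker A a b c d s s
    rw [ka, kb, kc, kd, ← hmid] at this
    rw [this, hP, mul_zero]
  · have := wedge_zero (A 0) (A 1) (A 2) x a b c d s s h012 h013 h023 h123
    rw [ka, kb, ← hmid, ← hy 0, ← hy 1, ← hy 2] at this
    exact this
  · have := wedge_zero (A 0) (A 1) (A 3) x a b c d s s h012 h013 h023 h123
    rw [ka, kc, ← hy 0, ← hy 1, ← hy 3] at this
    exact this
  · have := wedge_zero (A 0) (A 2) (A 3) x a b c d s s h012 h013 h023 h123
    rw [kb, kd, ← hy 0, ← hy 2, ← hy 3] at this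
    exact this
  · have := wedge_zero (A 1) (A 2) (A 3) x a b c d s s h012 h013 h023 h123
    rw [kc, kd, ← hmid, ← hy 1, ← hy 2, ← hy 3] at this
    exact this

/-- Invariance under the whole group. -/
lemma abs_of_mem_Sz (h2 : (2 : F) = 0) (he : e ≠ 0) (θ : F →+* F) (hθ : ∀ x, θ x = x ^ e)
    (g : GL (Fin 4) F) (hg : g ∈ Sz F e) {x : Fin 4 → F} (hx : Abs e x) :
    Abs e ((g : Matrix (Fin 4) (Fin 4) F) *ᵥ x) := by
  obtain ⟨hsp, hst⟩ := Cfsg.Agent.S3639.mem_sz h2 θ hθ g hg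
  refine abs_mulVec h2 ?_ g hsp hst hx
  intro a b
  rw [← hθ, ← hθ, ← hθ, map_add]

/-- The base vector. -/
def v0 : Fin 4 → F := ![1, 0, 0, 0]

lemma abs_v0 (he : e ≠ 0) : Abs e (v0 : Fin 4 → F) := by
  refine ⟨0, ?_, ?_, ?_, ?_, ?_⟩ <;> simp [v0, he]

lemma mulVec_v0 (A : Matrix (Fin 4) (Fin 4) F) (i : Fin 4) : (A *ᵥ (v0 : Fin 4 → F)) i = A i 0 := by
  simp [Matrix.mulVec, dotProduct, Fin.sum_univ_four, v0]

/-- Scaling the first three coordinates forces scaling of the last. -/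
lemma abs_scale {x y : Fin 4 → F} (hx : Abs e x) (hy : Abs e y) (h0 : x 0 ≠ 0) (c : F) (hc : c ≠ 0)
    (e0 : y 0 = c * x 0) (e1 : y 1 = c * x 1) (e2 : y 2 = c * x 2) : y 3 = c * x 3 := by
  obtain ⟨s, -, h012, h013, -, -⟩ := hx
  obtain ⟨s', -, h012', h013', -, -⟩ := hy
  rw [e0, e1, e2] at h012' h013'
  rw [mul_pow, mul_pow] at h012' h013'
  have hce : c ^ e ≠ 0 := pow_ne_zero _ hc
  have hx0e : x 0 ^ e ≠ 0 := pow_ne_zero _ h0
  have hs : s' = c ^ e * s := by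
    apply mul_left_cancel₀ (mul_ne_zero hc h0)
    linear_combination h012' - c * c ^ e * h012
  rw [hs] at h013'
  apply mul_right_cancel₀ (mul_ne_zero hce hx0e)
  linear_combination h013' - c * c ^ e * h013

/-- Points at infinity. -/
lemma abs_zero (he : e ≠ 0) {x : Fin 4 → F} (hx : Abs e x) (h0 : x 0 = 0) : x 1 = 0 ∧ x 2 = 0 := by
  obtain ⟨s, hP, h012, h013, h023, h123⟩ := hx
  rw [h0] at hP h012 h013 h023
  have h0e : (0 : F) ^ e = 0 := zero_pow he
  rw [h0e] at hP h012 h013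
  have h1 : x 1 = 0 := by
    have : x 1 * x 1 ^ e = 0 := by linear_combination -h012
    rcases mul_eq_zero.1 this with h | h
    · exact h
    · exact pow_eq_zero_iff he |>.1 h
  rw [h1] at hP h123
  have hs : s = 0 := by
    have : s * s = 0 := by
      rw [zero_pow he] at hP
      linear_combination hP
    simpa using this
  rw [hs] at h123
  refine ⟨h1, ?_⟩
  have : x 2 * x 2 ^ e = 0 := by linear_combination -h123
  rcases mul_eq_zero.1 this with h | h
  · exact h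
  · exact pow_eq_zero_iff he |>.1 h

/-- Index from a map with fibres the cosets of a subgroup. -/
lemma card_of_fibers {G Y : Type*} [Group G] (P : Subgroup G) (f : G → Y)
    (hf : Function.Surjective f) (h : ∀ g k, f g = f k ↔ g⁻¹ * k ∈ P) :
    Nat.card G = Nat.card Y * Nat.card P := by
  rw [Subgroup.card_eq_card_quotient_mul_card_subgroup P]
  congr 1
  refine Nat.card_congr (Equiv.ofBijective (Quotient.lift f ?_) ⟨?_, ?_⟩)
  · intro a b hab
    exact (h a b).2 (QuotientGroup.leftRel_apply.1 hab)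
  · intro a b
    induction a using QuotientGroup.induction_on with | H a => ?_
    induction b using QuotientGroup.induction_on with | H b => ?_
    intro hab
    exact QuotientGroup.eq.2 ((h a b).1 hab)
  · intro y
    obtain ⟨g, rfl⟩ := hf y
    exact ⟨(g : G ⧸ P), rfl⟩

section generic

/-- Matrix of the general element of the Sylow subgroup. -/
def UP (e : ℕ) (a b : F) : Cfsg.Agent.Lib.KS2.LawSz.LP F :=
  ⟨a, a ^ e, b, b + a * a ^ e, b ^ e + a ^ 2 * a ^ e + a * b⟩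

lemma UP_comp_inv (h2 : (2 : F) = 0) (a b : F) :
    Cfsg.Agent.Lib.KS2.LawSz.LM (UP e a b) *
      Cfsg.Agent.Lib.KS2.LawSz.LM (⟨a, a ^ e, b + a * a ^ e, b, b ^ e + a ^ 2 * a ^ e + a * b⟩ : Cfsg.Agent.Lib.KS2.LawSz.LP F) = 1 := by
  rw [Cfsg.Agent.Lib.KS2.LawSz.LM_comp, ← Cfsg.Agent.Lib.KS2.LawSz.LM_one]
  congr 1
  simp only [Cfsg.Agent.Lib.KS2.LawSz.LP.comp, UP]
  congr 1
  · linear_combination a * h2
  · linear_combination a ^ e * h2
  · linear_combination (b + a * a ^ e) * h2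
  · linear_combination (b + a * a ^ e) * h2
  · linear_combination (b ^ e + a ^ 2 * a ^ e + a * b + a * b + a ^ 2 * a ^ e) * h2

/-- The general element of the Sylow subgroup. -/
def UG (h2 : (2 : F) = 0) (e : ℕ) (a b : F) : GL (Fin 4) F :=
  ⟨Cfsg.Agent.Lib.KS2.LawSz.LM (UP e a b),
    Cfsg.Agent.Lib.KS2.LawSz.LM (⟨a, a ^ e, b + a * a ^ e, b, b ^ e + a ^ 2 * a ^ e + a * b⟩ : Cfsg.Agent.Lib.KS2.LawSz.LP F),
    UP_comp_inv h2 a b, mul_eq_one_comm.mp (UP_comp_inv h2 a b)⟩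

lemma UG_sp (h2 : (2 : F) = 0) (a b : F) : UG h2 e a b ∈ Sp4 F := by
  intro u v
  show altForm4 (Cfsg.Agent.Lib.KS2.LawSz.LM (UP e a b) *ᵥ u) (Cfsg.Agent.Lib.KS2.LawSz.LM (UP e a b) *ᵥ v) = altForm4 u v
  rw [Cfsg.Agent.Lib.KS2.LawSz.toV_eta u, Cfsg.Agent.Lib.KS2.LawSz.toV_eta v,
    Cfsg.Agent.Lib.KS2.LawSz.LM_mulVec, Cfsg.Agent.Lib.KS2.LawSz.LM_mulVec]
  simp only [altForm4, Cfsg.Agent.Lib.KS2.LawSz.toV, Cfsg.Agent.Lib.KS2.LawSz.LP.act, UP]
  simp
  have hneg : ∀ x : F, x + x = 0 := fun x => by linear_combination x * h2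
  grind

lemma UG_star (h2 : (2 : F) = 0) (he : e ≠ 0) (hadd : ∀ a b : F, (a + b) ^ e = a ^ e + b ^ e)
    (h3 : ∀ a : F, (a ^ e) ^ e = a ^ 2) (a b : F) :
    star4 (Cfsg.Agent.Lib.KS2.LawSz.LM (UP e a b)) = (Cfsg.Agent.Lib.KS2.LawSz.LM (UP e a b)).map (fun x => x ^ e) := by
  have hneg : ∀ x : F, -x = x := fun x => by
    linear_combination (-x) * h2
  have h6 : a ^ e ^ 2 = a ^ 2 := by rw [sq, pow_mul]; exact h3 a
  have h7 : ((a ^ 2) ^ e) = (a ^ e) ^ 2 := by rw [← pow_mul, mul_comm, pow_mul]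
  ext i j
  fin_cases i <;> fin_cases j <;>
    simp [star4, pairOf, Cfsg.Agent.Lib.KS2.LawSz.LM, UP, he, mul_pow, hadd, h3, hneg, h7] <;> grind

end generic

section count

lemma inv_mulVec_mulVec (g : GL (Fin 4) F) (x : Fin 4 → F) :
    ((g⁻¹ : GL (Fin 4) F) : Matrix (Fin 4) (Fin 4) F) *ᵥ ((g : Matrix (Fin 4) (Fin 4) F) *ᵥ x) = x := by
  rw [Matrix.mulVec_mulVec, ← Units.val_mul, inv_mul_cancel, Units.val_one, Matrix.one_mulVec]

lemma mulVec_inv_mulVec (g : GL (Fin 4) F) (x : Fin 4 → F) :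
    (g : Matrix (Fin 4) (Fin 4) F) *ᵥ (((g⁻¹ : GL (Fin 4) F) : Matrix (Fin 4) (Fin 4) F) *ᵥ x) = x := by
  rw [Matrix.mulVec_mulVec, ← Units.val_mul, mul_inv_cancel, Units.val_one, Matrix.one_mulVec]

lemma v0_ne : (v0 : Fin 4 → F) ≠ 0 := by
  intro h
  have := congrFun h 0
  simp [v0] at this

lemma mulVec_v0_ne (g : GL (Fin 4) F) : (g : Matrix (Fin 4) (Fin 4) F) *ᵥ (v0 : Fin 4 → F) ≠ 0 := by
  intro h
  have h1 := inv_mulVec_mulVec g (v0 : Fin 4 → F)
  rw [h, Matrix.mulVec_zero] at h1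
  exact v0_ne h1.symm

variable (F) (e) in
/-- The stabiliser of the line through `v0`. -/
def Stab : Subgroup ↥(Sz F e) where
  carrier := {g | ∃ c : F, ((g : GL (Fin 4) F) : Matrix (Fin 4) (Fin 4) F) *ᵥ (v0 : Fin 4 → F) = c • v0}
  one_mem' := ⟨1, by simp⟩
  mul_mem' := by
    rintro g k ⟨c, hc⟩ ⟨d, hd⟩
    refine ⟨d * c, ?_⟩
    have : (((g * k : ↥(Sz F e)) : GL (Fin 4) F) : Matrix (Fin 4) (Fin 4) F)
        = (g.1 : Matrix (Fin 4) (Fin 4) F) * (k.1 : Matrix (Fin 4) (Fin 4) F) := rfl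
    rw [this, ← Matrix.mulVec_mulVec, hd, Matrix.mulVec_smul, hc, smul_smul]
  inv_mem' := by
    rintro g ⟨c, hc⟩
    have hc0 : c ≠ 0 := by
      rintro rfl
      rw [zero_smul] at hc
      exact mulVec_v0_ne g.1 hc
    refine ⟨c⁻¹, ?_⟩
    have h1 := inv_mulVec_mulVec g.1 (v0 : Fin 4 → F)
    rw [hc, Matrix.mulVec_smul] at h1
    have h3 : (((g⁻¹ : ↥(Sz F e)) : GL (Fin 4) F) : Matrix (Fin 4) (Fin 4) F)
        = (((g.1)⁻¹ : GL (Fin 4) F) : Matrix (Fin 4) (Fin 4) F) := rfl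
    rw [h3]
    conv_rhs => rw [← h1, smul_smul, inv_mul_cancel₀ hc0, one_smul]

open scoped Classical in
/-- The parameter of the image of the base line. -/
noncomputable def pt (g : ↥(Sz F e)) : Option (F × F) :=
  if ((g : GL (Fin 4) F) : Matrix (Fin 4) (Fin 4) F) 0 0 = 0 then none
  else some (((g : GL (Fin 4) F) : Matrix (Fin 4) (Fin 4) F) 1 0 / ((g : GL (Fin 4) F) : Matrix (Fin 4) (Fin 4) F) 0 0,
    ((g : GL (Fin 4) F) : Matrix (Fin 4) (Fin 4) F) 2 0 / ((g : GL (Fin 4) F) : Matrix (Fin 4) (Fin 4) F) 0 0)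

lemma abs_col (h2 : (2 : F) = 0) (he : e ≠ 0) (θ : F →+* F) (hθ : ∀ x, θ x = x ^ e) (g : ↥(Sz F e)) :
    Abs e ((g.1 : Matrix (Fin 4) (Fin 4) F) *ᵥ (v0 : Fin 4 → F)) :=
  abs_of_mem_Sz h2 he θ hθ g.1 g.2 (abs_v0 he)

/-- Equal parameters means proportional columns. -/
lemma pt_eq_iff (h2 : (2 : F) = 0) (he : e ≠ 0) (θ : F →+* F) (hθ : ∀ x, θ x = x ^ e) (g k : ↥(Sz F e)) :
    pt g = pt k ↔ g⁻¹ * k ∈ Stab F e := by
  classical
  set x := (g.1 : Matrix (Fin 4) (Fin 4) F) *ᵥ (v0 : Fin 4 → F) with hx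
  set y := (k.1 : Matrix (Fin 4) (Fin 4) F) *ᵥ (v0 : Fin 4 → F) with hy
  have hxi : ∀ i, (g.1 : Matrix (Fin 4) (Fin 4) F) i 0 = x i := fun i => (mulVec_v0 _ i).symm
  have hyi : ∀ i, (k.1 : Matrix (Fin 4) (Fin 4) F) i 0 = y i := fun i => (mulVec_v0 _ i).symm
  have ax : Abs e x := abs_col h2 he θ hθ g
  have ay : Abs e y := abs_col h2 he θ hθ k
  have hx0 : x ≠ 0 := mulVec_v0_ne g.1
  have hy0 : y ≠ 0 := mulVec_v0_ne k.1
  have hmem : g⁻¹ * k ∈ Stab F e ↔ ∃ c : F, y = c • x := by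
    constructor
    · rintro ⟨c, hc⟩
      refine ⟨c, ?_⟩
      have e1 : (((g⁻¹ * k : ↥(Sz F e)) : GL (Fin 4) F) : Matrix (Fin 4) (Fin 4) F)
          = ((g.1⁻¹ : GL (Fin 4) F) : Matrix (Fin 4) (Fin 4) F) * (k.1 : Matrix (Fin 4) (Fin 4) F) := rfl
      rw [e1, ← Matrix.mulVec_mulVec, ← hy] at hc
      have := congrArg (fun z => (g.1 : Matrix (Fin 4) (Fin 4) F) *ᵥ z) hc
      simp only [mulVec_inv_mulVec, Matrix.mulVec_smul] at this
      exact this
    · rintro ⟨c, hc⟩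
      refine ⟨c, ?_⟩
      have e1 : (((g⁻¹ * k : ↥(Sz F e)) : GL (Fin 4) F) : Matrix (Fin 4) (Fin 4) F)
          = ((g.1⁻¹ : GL (Fin 4) F) : Matrix (Fin 4) (Fin 4) F) * (k.1 : Matrix (Fin 4) (Fin 4) F) := rfl
      rw [e1, ← Matrix.mulVec_mulVec, ← hy, hc, Matrix.mulVec_smul, hx, inv_mulVec_mulVec]
  rw [hmem]
  simp only [pt, hxi, hyi]
  by_cases h0 : x 0 = 0
  · obtain ⟨h1, h3⟩ := abs_zero he ax h0
    have hx3 : x 3 ≠ 0 := by
      intro h4
      apply hx0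
      ext i
      fin_cases i
      · exact h0
      · exact h1
      · exact h3
      · exact h4
    rw [if_pos h0]
    by_cases h0' : y 0 = 0
    · obtain ⟨h1', h3'⟩ := abs_zero he ay h0'
      rw [if_pos h0']
      simp only [true_iff]
      refine ⟨y 3 / x 3, ?_⟩
      ext i
      fin_cases i
      · simp [h0, h0']
      · simp [h1, h1']
      · simp [h3, h3']
      · simp [hx3]
    · rw [if_neg h0']
      simp only [reduceCtorEq, false_iff, not_exists]
      intro c hc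
      apply h0'
      rw [hc]
      simp [h0]
  · rw [if_neg h0]
    by_cases h0' : y 0 = 0
    · rw [if_pos h0']
      simp only [reduceCtorEq, false_iff, not_exists]
      intro c hc
      have hc0 : c ≠ 0 := by
        rintro rfl
        rw [zero_smul] at hc
        exact hy0 hc
      have : y 0 = c * x 0 := by rw [hc]; simp
      rw [h0'] at this
      exact (mul_ne_zero hc0 h0) this.symm
    · rw [if_neg h0']
      constructor
      · intro h
        simp only [Option.some.injEq, Prod.mk.injEq] at h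
        obtain ⟨e1, e2⟩ := h
        have hc : y 0 / x 0 ≠ 0 := div_ne_zero h0' h0
        refine ⟨y 0 / x 0, ?_⟩
        have f0 : y 0 = y 0 / x 0 * x 0 := by field_simp
        have f1 : y 1 = y 0 / x 0 * x 1 := by
          rw [div_eq_div_iff h0 h0'] at e1
          field_simp
          linear_combination -e1
        have f2 : y 2 = y 0 / x 0 * x 2 := by
          rw [div_eq_div_iff h0 h0'] at e2
          field_simp
          linear_combination -e2
        have f3 := abs_scale ax ay h0 _ hc f0 f1 f2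
        ext i
        fin_cases i
        · simpa using f0
        · simpa using f1
        · simpa using f2
        · simpa using f3
      · rintro ⟨c, hc⟩
        have f0 : y 0 = c * x 0 := by rw [hc]; simp
        have f1 : y 1 = c * x 1 := by rw [hc]; simp
        have f2 : y 2 = c * x 2 := by rw [hc]; simp
        have hc0 : c ≠ 0 := by
          rintro rfl
          rw [zero_smul] at hc
          exact hy0 hc
        rw [f0, f1, f2, mul_div_mul_left _ _ hc0, mul_div_mul_left _ _ hc0]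

/-- The base-line parameters are all attained. -/
lemma pt_surj (h2 : (2 : F) = 0) (he : e ≠ 0) (hadd : ∀ a b : F, (a + b) ^ e = a ^ e + b ^ e)
    (h3 : ∀ a : F, (a ^ e) ^ e = a ^ 2) : Function.Surjective (pt : ↥(Sz F e) → Option (F × F)) := by
  classical
  rintro (_ | ⟨a, b⟩)
  · have hW : (Cfsg.Agent.Lib.KS2.LawSz.WW : GL (Fin 4) F) ∈ Sz F e :=
      Subgroup.subset_closure ⟨Cfsg.Agent.Lib.KS2.LawSz.WW_sp, Cfsg.Agent.Lib.KS2.LawSz.WW_star h2 e he⟩
    refine ⟨⟨_, hW⟩, ?_⟩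
    have : ((Cfsg.Agent.Lib.KS2.LawSz.WW : GL (Fin 4) F) : Matrix (Fin 4) (Fin 4) F) 0 0 = 0 := by
      simp [Cfsg.Agent.Lib.KS2.LawSz.WW, Cfsg.Agent.Lib.KS2.LawSz.WM]
    simp only [pt, this, if_true]
  · have hU : UG h2 e a b ∈ Sz F e :=
      Subgroup.subset_closure ⟨UG_sp h2 a b, UG_star h2 he hadd h3 a b⟩
    refine ⟨⟨_, hU⟩, ?_⟩
    have h0 : ((UG h2 e a b : GL (Fin 4) F) : Matrix (Fin 4) (Fin 4) F) 0 0 = 1 := by
      simp [UG, Cfsg.Agent.Lib.KS2.LawSz.LM]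
    have h1 : ((UG h2 e a b : GL (Fin 4) F) : Matrix (Fin 4) (Fin 4) F) 1 0 = a := by
      simp [UG, Cfsg.Agent.Lib.KS2.LawSz.LM, UP]
    have h4 : ((UG h2 e a b : GL (Fin 4) F) : Matrix (Fin 4) (Fin 4) F) 2 0 = b := by
      simp [UG, Cfsg.Agent.Lib.KS2.LawSz.LM, UP]
    simp only [pt, h0, h1, h4, one_ne_zero, if_false, div_one]

/-- Orbit-stabiliser on the ovoid. -/
theorem card_Sz_eq [Fintype F] (h2 : (2 : F) = 0) (he : e ≠ 0) (θ : F →+* F) (hθ : ∀ x, θ x = x ^ e)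
    (h3 : ∀ a : F, (a ^ e) ^ e = a ^ 2) :
    Nat.card ↥(Sz F e) = (Fintype.card F ^ 2 + 1) * Nat.card (Stab F e) := by
  classical
  have hadd : ∀ a b : F, (a + b) ^ e = a ^ e + b ^ e := by
    intro a b
    rw [← hθ, ← hθ, ← hθ, map_add]
  rw [card_of_fibers (Stab F e) pt (pt_surj h2 he hadd h3) (pt_eq_iff h2 he θ hθ)]
  congr 1
  rw [Nat.card_eq_fintype_card, Fintype.card_option, Fintype.card_prod]
  ring

/-- The Frobenius data of the Suzuki group. -/
theorem card_Sz_dvd [Fintype F] {m : ℕ} (hF : Fintype.card F = 2 ^ (2 * m + 1)) :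
    (Fintype.card F ^ 2 + 1) ∣ Nat.card ↥(Sz F (2 ^ (m + 1))) := by
  have h2 : (2 : F) = 0 := by
    have h0 := FiniteField.cast_card_eq_zero F
    rw [hF] at h0
    push_cast at h0
    exact pow_eq_zero_iff (by omega) |>.mp h0
  haveI : CharP F 2 := CharTwo.of_one_ne_zero_of_two_eq_zero one_ne_zero h2
  haveI : Fact (Nat.Prime 2) := ⟨Nat.prime_two⟩
  let θ : F →+* F := iterateFrobenius F 2 (m + 1)
  have hθ : ∀ x, θ x = x ^ (2 ^ (m + 1)) := fun x => iterateFrobenius_def 2 (m + 1) x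
  have h3 : ∀ a : F, (a ^ (2 ^ (m + 1))) ^ (2 ^ (m + 1)) = a ^ 2 := by
    intro a
    have h4 : 2 ^ (m + 1) * 2 ^ (m + 1) = Fintype.card F * 2 := by
      rw [hF]; ring
    rw [← pow_mul, h4, pow_mul, FiniteField.pow_card]
  exact ⟨_, card_Sz_eq h2 (by positivity) θ hθ h3⟩

end count

end Cfsg.Agent.Lib.SzOvoid
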